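import Groth.Agent.L28.WittEff.Core
import Groth.Agent.L01.WittDescentFF
import Mathlib.RingTheory.Finiteness.Projective
import Mathlib.RingTheory.TensorProduct.Basic
import Mathlib.Algebra.Module.Projective

/-!
From categorical descent data of modules over truncated Witt vectors to matrices, and back.
-/

set_option autoImplicit false
set_option backward.isDefEq.respectTransparency.types false

open CategoryTheory Opposite Matrix TensorProduct
open L01.WittDescentFF (el el_add el_zero el_smul smul_el map_el el_induction cmp cmp_hom cmp_inv mapComp'_eq wittLoc)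

namespace Groth.L28.WittEff

universe u

section Coord

variable {A B : Type u} [CommRing A] [CommRing B] (f : A →+* B) {M : ModuleCat.{u} A} {N : ℕ}
  (i : M →ₗ[A] (Fin N → A))

/-- Coordinates on a base change, induced by coordinates on a module. -/
noncomputable def coord : (ModuleCat.extendScalars f).obj M →ₗ[B] (Fin N → B) :=
  letI := f.toAlgebra
  LinearMap.liftBaseChange B (((Algebra.linearMap A B).compLeft (Fin N)).comp i)

theorem coord_el (s : B) (m : M) : coord f i (el f M s m) = s • (f ∘ i m) := rfl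

theorem coord_el_one (m : M) : coord f i (el f M 1 m) = f ∘ i m := by
  rw [coord_el, one_smul]

variable {i} (π : (Fin N → A) →ₗ[A] M) (hπ : π ∘ₗ i = LinearMap.id)

include hπ in
theorem eq_sum_coord (z : (ModuleCat.extendScalars f).obj M) :
    z = ∑ k, coord f i z k • el f M 1 (π (Pi.single k 1)) := by
  induction z using el_induction f M with
  | h0 => simp
  | ht s m =>
    have hsum : ∀ (g : Fin N → M), el f M s (∑ k, g k) = ∑ k, el f M s (g k) := fun g =>
      map_sum (AddMonoidHom.mk' (fun x => el f M s x) (el_add f M s)) g _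
    have hm : m = ∑ k, i m k • π (Pi.single k 1) := by
      conv_lhs => rw [← LinearMap.id_apply (R := A) m, ← hπ, LinearMap.comp_apply, pi_eq_sum_univ' (i m), map_sum]
      exact Finset.sum_congr rfl fun k _ => map_smul π _ _
    conv_lhs => rw [hm, hsum]
    refine Finset.sum_congr rfl fun k _ => ?_
    rw [el_smul, coord_el, Pi.smul_apply, smul_el, Function.comp_apply, smul_eq_mul, mul_one, mul_comm]
  | ha x y hx hy =>
    conv_lhs => rw [hx, hy]
    rw [map_add, ← Finset.sum_add_distrib]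
    exact Finset.sum_congr rfl fun k _ => (add_smul _ _ _).symm

include hπ in
theorem coord_injective : Function.Injective (coord f i) := fun z z' h => by
  rw [eq_sum_coord f π hπ z, eq_sum_coord f π hπ z', h]

theorem toMatrix_mulVec_self (hπ : π ∘ₗ i = LinearMap.id) (m : M) :
    LinearMap.toMatrix' (i ∘ₗ π) *ᵥ i m = i m := by
  rw [LinearMap.toMatrix'_mulVec, LinearMap.comp_apply, ← LinearMap.comp_apply π i, hπ, LinearMap.id_apply]

include hπ in
theorem coord_fixed (z : (ModuleCat.extendScalars f).obj M) :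
    (LinearMap.toMatrix' (i ∘ₗ π)).map f *ᵥ coord f i z = coord f i z := by
  induction z using el_induction f M with
  | h0 => simp
  | ht s m =>
    rw [coord_el, mulVec_smul]
    congr 1
    funext k
    rw [← RingHom.map_mulVec, toMatrix_mulVec_self π hπ]
    rfl
  | ha x y hx hy => rw [map_add, mulVec_add, hx, hy]

end Coord

/-- An isomorphism of modules from a linear map and its inverse. -/
def mkIso {A : Type u} [CommRing A] {X Y : ModuleCat.{u} A} (f : X →ₗ[A] Y) (g : Y →ₗ[A] X)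
    (h₁ : ∀ x, g (f x) = x) (h₂ : ∀ y, f (g y) = y) : X ≅ Y :=
  LinearEquiv.toModuleIso { f with invFun := g, left_inv := h₁, right_inv := h₂ }

section Pull

variable {A B C : CommRingCat.{u}} (f₁ f₂ : LocallyDiscrete.mk A ⟶ LocallyDiscrete.mk B)
  (k : LocallyDiscrete.mk B ⟶ LocallyDiscrete.mk C) (k₁ k₂ : LocallyDiscrete.mk A ⟶ LocallyDiscrete.mk C)
  (h₁ : f₁ ≫ k = k₁) (h₂ : f₂ ≫ k = k₂) {M : ModuleCat.{u} A} {N : ℕ} (i : M →ₗ[A] (Fin N → A))

theorem coord_cmp_inv (z : (ModuleCat.extendScalars f₂.as.hom).obj M) :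
    coord k₂.as.hom i ((cmp f₂ k k₂ h₂ M).inv (el k.as.hom _ 1 z)) = k.as.hom ∘ coord f₂.as.hom i z := by
  induction z using el_induction f₂.as.hom M with
  | h0 => rw [el_zero, map_zero, map_zero, map_zero]; funext j; exact (map_zero k.as.hom).symm
  | ht s m =>
    rw [cmp_inv, coord_el, coord_el]
    subst h₂
    funext j
    show k.as.hom s * k.as.hom (f₂.as.hom (i m j)) = k.as.hom (s * f₂.as.hom (i m j))
    rw [map_mul]
  | ha x y hx hy => rw [el_add, map_add, map_add, hx, hy, map_add]; funext j; exact (map_add k.as.hom _ _).symm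

theorem coord_pullHom
    (φ : (ModuleCat.extendScalars f₁.as.hom).obj M ⟶ (ModuleCat.extendScalars f₂.as.hom).obj M) (m : M) :
    coord k₂.as.hom i (((cmp f₁ k k₁ h₁ M).hom ≫ (ModuleCat.extendScalars k.as.hom).map φ ≫ (cmp f₂ k k₂ h₂ M).inv)
        (el k₁.as.hom M 1 m)) =
      k.as.hom ∘ coord f₂.as.hom i (φ (el f₁.as.hom M 1 m)) := by
  simp only [ConcreteCategory.comp_apply]
  rw [cmp_hom, map_el, coord_cmp_inv]

theorem comm_apply {A₀ : CommRingCat.{u}} (α : LocallyDiscrete.mk A₀ ⟶ LocallyDiscrete.mk A)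
    (π : LocallyDiscrete.mk A₀ ⟶ LocallyDiscrete.mk B) (e₁ : α ≫ f₁ = π) (e₂ : α ≫ f₂ = π) (M₀ : ModuleCat.{u} A₀)
    (θ : (ModuleCat.extendScalars α.as.hom).obj M₀ ⟶ M)
    (φ : (ModuleCat.extendScalars f₁.as.hom).obj M ⟶ (ModuleCat.extendScalars f₂.as.hom).obj M)
    (hinv : ∀ x : M₀, φ (el f₁.as.hom M 1 (θ (el α.as.hom M₀ 1 x))) = el f₂.as.hom M 1 (θ (el α.as.hom M₀ 1 x))) :
    (ModuleCat.extendScalars f₁.as.hom).map θ ≫ φ =
      ((cmp α f₁ π e₁ M₀).inv ≫ (cmp α f₂ π e₂ M₀).hom) ≫ (ModuleCat.extendScalars f₂.as.hom).map θ := by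
  refine ModuleCat.hom_ext (LinearMap.ext fun z => ?_)
  induction z using el_induction f₁.as.hom ((ModuleCat.extendScalars α.as.hom).obj M₀) with
  | h0 => rw [map_zero, map_zero]
  | ht s w =>
    induction w using el_induction α.as.hom M₀ with
    | h0 => rw [el_zero, map_zero, map_zero]
    | ht b x =>
      rw [show el f₁.as.hom ((ModuleCat.extendScalars α.as.hom).obj M₀) s (el α.as.hom M₀ b x) =
          (f₁.as.hom b * s) • el f₁.as.hom _ 1 (el α.as.hom M₀ 1 x) by
        rw [smul_el, mul_one, show el α.as.hom M₀ b x = b • el α.as.hom M₀ 1 x by rw [smul_el, mul_one], el_smul],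
        map_smul, map_smul]
      congr 1
      show φ ((ModuleCat.extendScalars f₁.as.hom).map θ (el f₁.as.hom _ 1 (el α.as.hom M₀ 1 x))) =
        (ModuleCat.extendScalars f₂.as.hom).map θ
          ((cmp α f₂ π e₂ M₀).hom ((cmp α f₁ π e₁ M₀).inv (el f₁.as.hom _ 1 (el α.as.hom M₀ 1 x))))
      rw [map_el, cmp_inv, map_one, cmp_hom, map_el, hinv]
    | ha x y hx hy => rw [el_add, map_add, map_add, hx, hy]
  | ha x y hx hy => rw [map_add, map_add, hx, hy]

end Pull

open W4c3truncdispsmooth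

variable {p : ℕ} [Fact p.Prime] {n : ℕ} {R R' : Type u} [CommRing R] [CommRing R'] [Algebra R R']

/-- The structure map of an algebra, as a morphism of affine schemes. -/
noncomputable abbrev sf (R S : Type u) [CommRing R] [CommRing S] [Algebra R S] :
    (op (CommRingCat.of S) : CommRingCat.{u}ᵒᵖ) ⟶ op (CommRingCat.of R) :=
  (CommRingCat.ofHom (algebraMap R S)).op

/-- An algebra map, as a morphism of affine schemes. -/
noncomputable abbrev af {S S' : Type u} [CommRing S] [Algebra R S] [CommRing S'] [Algebra R S'] (f : S →ₐ[R] S') :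
    (op (CommRingCat.of S') : CommRingCat.{u}ᵒᵖ) ⟶ op (CommRingCat.of S) :=
  (CommRingCat.ofHom f.toRingHom).op

theorem af_sf {S S' : Type u} [CommRing S] [Algebra R S] [CommRing S'] [Algebra R S'] (f : S →ₐ[R] S') :
    af f ≫ sf R S = sf R S' :=
  Quiver.Hom.unop_inj (CommRingCat.hom_ext f.comp_algebraMap)

variable (D : (wittModPF.{u} p n).DescentData (fun _ : PUnit.{u + 1} => (CommRingCat.ofHom (algebraMap R R')).op))

/-- The glueing map over an algebra. -/
noncomputable def glue {S : Type u} [CommRing S] [Algebra R S] (f g : R' →ₐ[R] S) :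
    (ModuleCat.extendScalars (W f : TruncatedWittVector p n R' →+* _)).obj (descObj D) ⟶
      (ModuleCat.extendScalars (W g : TruncatedWittVector p n R' →+* _)).obj (descObj D) :=
  D.hom (sf R S) (af f) (af g) (af_sf f) (af_sf g)

theorem glue_self {S : Type u} [CommRing S] [Algebra R S] (f : R' →ₐ[R] S)
    (z : (ModuleCat.extendScalars (W f : TruncatedWittVector p n R' →+* _)).obj (descObj D)) :
    glue D f f z = z := by
  have h : glue D f f = 𝟙 _ := D.hom_self (sf R S) (i := PUnit.unit) (af f) (af_sf f)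
  rw [h]
  rfl

theorem glue_comp {S : Type u} [CommRing S] [Algebra R S] (f g h : R' →ₐ[R] S)
    (z : (ModuleCat.extendScalars (W f : TruncatedWittVector p n R' →+* _)).obj (descObj D)) :
    glue D g h (glue D f g z) = glue D f h z := by
  have e : glue D f g ≫ glue D g h = glue D f h :=
    D.hom_comp (sf R S) (i₁ := PUnit.unit) (i₂ := PUnit.unit) (i₃ := PUnit.unit) (af f) (af g) (af h) (af_sf f)
      (af_sf g) (af_sf h)
  rw [← e]
  rfl

variable {N : ℕ} {i : descObj D →ₗ[TruncatedWittVector p n R'] (Fin N → TruncatedWittVector p n R')}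
  {π : (Fin N → TruncatedWittVector p n R') →ₗ[TruncatedWittVector p n R'] descObj D}

theorem coord_glue_pull {S S' : Type u} [CommRing S] [Algebra R S] [CommRing S'] [Algebra R S'] (k : S →ₐ[R] S')
    (f g : R' →ₐ[R] S) (m : descObj D) :
    coord (W (k.comp g)) i (glue D (k.comp f) (k.comp g) (el (W (k.comp f)) (descObj D) 1 m)) =
      (W k : TruncatedWittVector p n S →+* _) ∘ coord (W g) i (glue D f g (el (W f) (descObj D) 1 m)) := by
  let WF := wittTrunc.{u} p n
  let F₁ : LocallyDiscrete.mk (WF.obj (CommRingCat.of R')) ⟶ LocallyDiscrete.mk (WF.obj (CommRingCat.of S)) :=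
    (WF.map (af f).unop).toLoc
  let F₂ : LocallyDiscrete.mk (WF.obj (CommRingCat.of R')) ⟶ LocallyDiscrete.mk (WF.obj (CommRingCat.of S)) :=
    (WF.map (af g).unop).toLoc
  let K : LocallyDiscrete.mk (WF.obj (CommRingCat.of S)) ⟶ LocallyDiscrete.mk (WF.obj (CommRingCat.of S')) :=
    (WF.map (af k).unop).toLoc
  let K₁ : LocallyDiscrete.mk (WF.obj (CommRingCat.of R')) ⟶ LocallyDiscrete.mk (WF.obj (CommRingCat.of S')) :=
    (WF.map (af (k.comp f)).unop).toLoc
  let K₂ : LocallyDiscrete.mk (WF.obj (CommRingCat.of R')) ⟶ LocallyDiscrete.mk (WF.obj (CommRingCat.of S')) :=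
    (WF.map (af (k.comp g)).unop).toLoc
  have g₁ : af k ≫ af f = af (k.comp f) := rfl
  have g₂ : af k ≫ af g = af (k.comp g) := rfl
  have h₁ : F₁ ≫ K = K₁ := congrArg Quiver.Hom.toLoc (WF.map_comp (af f).unop (af k).unop).symm
  have h₂ : F₂ ≫ K = K₂ := congrArg Quiver.Hom.toLoc (WF.map_comp (af g).unop (af k).unop).symm
  have hp := D.pullHom_hom (af k) (sf R S) (sf R S') (af_sf k) (i₁ := PUnit.unit) (i₂ := PUnit.unit) (af f) (af g) (af_sf f) (af_sf g)
    (af (k.comp f)) (af (k.comp g)) g₁ g₂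
  have e₁ : (af f).op.toLoc ≫ (af k).op.toLoc = (af (k.comp f)).op.toLoc := rfl
  have e₂ : (af g).op.toLoc ≫ (af k).op.toLoc = (af (k.comp g)).op.toLoc := rfl
  have c₁ : cmp F₁ K K₁ h₁ (descObj D) = (Cat.Hom.toNatIso ((wittModPF.{u} p n).mapComp'
      (af f).op.toLoc (af k).op.toLoc (af (k.comp f)).op.toLoc e₁)).app _ := by
    rw [mapComp'_eq p n (af f).op.toLoc (af k).op.toLoc (af (k.comp f)).op.toLoc e₁ h₁]; rfl
  have c₂ : cmp F₂ K K₂ h₂ (descObj D) = (Cat.Hom.toNatIso ((wittModPF.{u} p n).mapComp'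
      (af g).op.toLoc (af k).op.toLoc (af (k.comp g)).op.toLoc e₂)).app _ := by
    rw [mapComp'_eq p n (af g).op.toLoc (af k).op.toLoc (af (k.comp g)).op.toLoc e₂ h₂]; rfl
  have := coord_pullHom F₁ F₂ K K₁ K₂ h₁ h₂ i (glue D f g) m
  rw [c₁, c₂] at this
  refine Eq.trans ?_ this
  exact congrArg (fun φ : (ModuleCat.extendScalars (W (k.comp f) : TruncatedWittVector p n R' →+* _)).obj (descObj D) ⟶
      (ModuleCat.extendScalars (W (k.comp g) : TruncatedWittVector p n R' →+* _)).obj (descObj D) =>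
    coord (W (k.comp g)) i (φ (el (W (k.comp f)) (descObj D) 1 m))) hp.symm

variable (i π) in
/-- The glueing matrix over an algebra. -/
noncomputable def glueMat (S : Type u) [CommRing S] [Algebra R S] (f g : R' →ₐ[R] S) :
    Matrix (Fin N) (Fin N) (TruncatedWittVector p n S) :=
  .of fun a b => coord (W g) i (glue D f g (el (W f) (descObj D) 1 (π (Pi.single b 1)))) a

variable (hπ : π ∘ₗ i = LinearMap.id)

include hπ in
theorem coord_glue {S : Type u} [CommRing S] [Algebra R S] (f g : R' →ₐ[R] S)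
    (z : (ModuleCat.extendScalars (W f : TruncatedWittVector p n R' →+* _)).obj (descObj D)) :
    coord (W g) i (glue D f g z) = glueMat D i π S f g *ᵥ coord (W f) i z := by
  conv_lhs => rw [eq_sum_coord (W f) π hπ z]
  rw [map_sum, map_sum]
  funext a
  rw [Finset.sum_apply]
  refine Finset.sum_congr rfl fun b _ => ?_
  rw [map_smul, map_smul, Pi.smul_apply, smul_eq_mul, mul_comm]
  rfl

/-- The matrix datum of a descent datum. -/
noncomputable def toDatum : Datum p n R R' N where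
  e := LinearMap.toMatrix' (i ∘ₗ π)
  Φ := glueMat D i π
  self S _ _ f := by
    ext a b
    rw [glueMat, Matrix.of_apply, glue_self, coord_el_one, Function.comp_apply, Matrix.map_apply,
      LinearMap.toMatrix'_apply]
    rfl
  comp S _ _ f g h := by
    ext a b
    rw [Matrix.mul_apply]
    conv_rhs => rw [glueMat, Matrix.of_apply, ← glue_comp D f g h, coord_glue D hπ g h]
    rfl
  natural S S' _ _ _ _ k f g := by
    refine Matrix.ext fun a b => ?_
    exact (congrFun (coord_glue_pull D k f g (π (Pi.single b 1))) a).symm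

section Generic

variable {𝒞 : Type*} [Category* 𝒞] (F : Pseudofunctor (LocallyDiscrete 𝒞ᵒᵖ) Cat) {S X : 𝒞} (g : X ⟶ S)

theorem nonempty_iso_of_cmp {M : F.obj (.mk (op S))} (D : F.DescentData (fun _ : PUnit.{u + 1} => g))
    (θ : (F.map g.op.toLoc).toFunctor.obj M ≅ D.obj PUnit.unit)
    (key : ∀ ⦃Y : 𝒞⦄ (q : Y ⟶ S) (f₁ f₂ : Y ⟶ X) (hf₁ : f₁ ≫ g = q) (hf₂ : f₂ ≫ g = q)
      (e1 : g.op.toLoc ≫ f₁.op.toLoc = q.op.toLoc) (e2 : g.op.toLoc ≫ f₂.op.toLoc = q.op.toLoc),
      (F.map f₁.op.toLoc).toFunctor.map θ.hom ≫ D.hom q (i₁ := PUnit.unit) (i₂ := PUnit.unit) f₁ f₂ hf₁ hf₂ =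
        (((Cat.Hom.toNatIso (F.mapComp' g.op.toLoc f₁.op.toLoc q.op.toLoc e1)).app M).inv ≫
            ((Cat.Hom.toNatIso (F.mapComp' g.op.toLoc f₂.op.toLoc q.op.toLoc e2)).app M).hom) ≫
          (F.map f₂.op.toLoc).toFunctor.map θ.hom) :
    Nonempty ((F.toDescentData (fun _ : PUnit.{u + 1} => g)).obj M ≅ D) :=
  ⟨Pseudofunctor.DescentData.isoMk (fun _ => θ) (fun Y q i₁ i₂ f₁ f₂ hf₁ hf₂ => by
    cases i₁
    cases i₂
    exact key q f₁ f₂ hf₁ hf₂ (congrArg (fun k => k.op.toLoc) hf₁) (congrArg (fun k => k.op.toLoc) hf₂))⟩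

end Generic

/-- An isomorphism with invariant image gives an isomorphism of descent data. -/
theorem iso_of_invariant (M : ModuleCat.{u} (TruncatedWittVector p n R))
    (θ : (ModuleCat.extendScalars (W (Algebra.ofId R R') : TruncatedWittVector p n R →+* _)).obj M ≅ descObj D)
    (h : ∀ (S : Type u) [CommRing S] [Algebra R S] (f g : R' →ₐ[R] S) (x : M),
      glue D f g (el (W f) (descObj D) 1 (θ.hom (el (W (Algebra.ofId R R')) M 1 x))) =
        el (W g) (descObj D) 1 (θ.hom (el (W (Algebra.ofId R R')) M 1 x))) :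
    Nonempty (((wittModPF.{u} p n).toDescentData
      (fun _ : PUnit.{u + 1} => (CommRingCat.ofHom (algebraMap R R')).op)).obj M ≅ D) := by
  refine nonempty_iso_of_cmp (wittModPF.{u} p n) (CommRingCat.ofHom (algebraMap R R')).op D θ ?_
  rintro ⟨S⟩ q f₁ f₂ hf₁ hf₂ g₁ g₂
  let WF := wittTrunc.{u} p n
  let _ : Algebra R S := q.unop.hom.toAlgebra
  let a₁ : R' →ₐ[R] S :=
    { f₁.unop.hom with commutes' := fun r => RingHom.congr_fun (congrArg (fun k => k.unop.hom) hf₁) r }
  let a₂ : R' →ₐ[R] S :=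
    { f₂.unop.hom with commutes' := fun r => RingHom.congr_fun (congrArg (fun k => k.unop.hom) hf₂) r }
  let A : LocallyDiscrete.mk (WF.obj (CommRingCat.of R)) ⟶ LocallyDiscrete.mk (WF.obj (CommRingCat.of R')) :=
    (WF.map (sf R R').unop).toLoc
  let F₁ : LocallyDiscrete.mk (WF.obj (CommRingCat.of R')) ⟶ LocallyDiscrete.mk (WF.obj S) :=
    (WF.map f₁.unop).toLoc
  let F₂ : LocallyDiscrete.mk (WF.obj (CommRingCat.of R')) ⟶ LocallyDiscrete.mk (WF.obj S) :=
    (WF.map f₂.unop).toLoc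
  let Q : LocallyDiscrete.mk (WF.obj (CommRingCat.of R)) ⟶ LocallyDiscrete.mk (WF.obj S) :=
    (WF.map q.unop).toLoc
  have e₁ : A ≫ F₁ = Q := congrArg Quiver.Hom.toLoc
    ((WF.map_comp (sf R R').unop f₁.unop).symm.trans (congrArg (fun k => WF.map k.unop) hf₁))
  have e₂ : A ≫ F₂ = Q := congrArg Quiver.Hom.toLoc
    ((WF.map_comp (sf R R').unop f₂.unop).symm.trans (congrArg (fun k => WF.map k.unop) hf₂))
  have c₁ : cmp A F₁ Q e₁ M = (Cat.Hom.toNatIso ((wittModPF.{u} p n).mapComp'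
      (sf R R').op.toLoc f₁.op.toLoc q.op.toLoc g₁)).app M := by
    rw [mapComp'_eq p n (sf R R').op.toLoc f₁.op.toLoc q.op.toLoc g₁ e₁]; rfl
  have c₂ : cmp A F₂ Q e₂ M = (Cat.Hom.toNatIso ((wittModPF.{u} p n).mapComp'
      (sf R R').op.toLoc f₂.op.toLoc q.op.toLoc g₂)).app M := by
    rw [mapComp'_eq p n (sf R R').op.toLoc f₂.op.toLoc q.op.toLoc g₂ e₂]; rfl
  have key := comm_apply F₁ F₂ A Q e₁ e₂ M θ.hom (glue D a₁ a₂) (h S a₁ a₂)
  rw [c₁, c₂] at key
  exact key

include hπ in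
theorem exists_iso [Module.FaithfullyFlat R R'] (hp : IsNilpotent (p : R)) :
    ∃ M : ModuleCat.{u} (TruncatedWittVector p n R),
      Module.Finite (TruncatedWittVector p n R) M ∧ Module.Projective (TruncatedWittVector p n R) M ∧
        Nonempty (((wittModPF.{u} p n).toDescentData
          (fun _ : PUnit.{u + 1} => (CommRingCat.ofHom (algebraMap R R')).op)).obj M ≅ D) := by
  obtain ⟨r, P₀, V, L, hP, heV, hLe, hVL, hLV, hinv⟩ := (toDatum D hπ).exists_descent hp
  let Rn := TruncatedWittVector p n R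
  let E : (Fin r → Rn) →ₗ[Rn] (Fin r → Rn) := P₀.mulVecLin
  let M : ModuleCat.{u} Rn := ModuleCat.of Rn (LinearMap.range E)
  let i₀ : M →ₗ[Rn] (Fin r → Rn) := (LinearMap.range E).subtype
  let π₀ : (Fin r → Rn) →ₗ[Rn] M := E.rangeRestrict
  have hπ₀ : π₀ ∘ₗ i₀ = LinearMap.id := LinearMap.ext fun ⟨x, y, hy⟩ => Subtype.ext (by
    show P₀ *ᵥ x = x
    rw [← hy, show E y = P₀ *ᵥ y from rfl, mulVec_mulVec, hP.eq])
  refine ⟨M, Module.Finite.of_surjective π₀ E.surjective_rangeRestrict, Module.Projective.of_split i₀ π₀ hπ₀, ?_⟩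
  let α : TruncatedWittVector p n R →+* TruncatedWittVector p n R' := W (Algebra.ofId R R')
  have hE : LinearMap.toMatrix' (i₀ ∘ₗ π₀) = P₀ := LinearMap.toMatrix'_toLin' P₀
  let ψ : (Fin r → TruncatedWittVector p n R') →ₗ[TruncatedWittVector p n R'] (ModuleCat.extendScalars α).obj M :=
    Fintype.linearCombination (TruncatedWittVector p n R') fun k => el α M 1 (π₀ (Pi.single k 1))
  have hψ : ∀ w, coord α i₀ (ψ w) = P₀.map α *ᵥ w := fun w => by
    rw [Fintype.linearCombination_apply, map_sum]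
    funext a
    rw [Finset.sum_apply]
    refine Finset.sum_congr rfl fun b _ => ?_
    rw [map_smul, coord_el_one, Pi.smul_apply, smul_eq_mul, mul_comm, Function.comp_apply]
    show α (i₀ (π₀ (Pi.single b 1)) a) * w b = α (P₀ a b) * w b
    rw [← hE, LinearMap.toMatrix'_apply]
    rfl
  let fwd : (ModuleCat.extendScalars α).obj M →ₗ[TruncatedWittVector p n R'] descObj D :=
    π ∘ₗ V.mulVecLin ∘ₗ coord α i₀
  let bwd : descObj D →ₗ[TruncatedWittVector p n R'] (ModuleCat.extendScalars α).obj M :=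
    ψ ∘ₗ L.mulVecLin ∘ₗ i
  have hiπ : ∀ w, i (π (V *ᵥ w)) = V *ᵥ w := fun w => by
    rw [← LinearMap.comp_apply i π, ← LinearMap.toMatrix'_mulVec, mulVec_mulVec,
      show LinearMap.toMatrix' (i ∘ₗ π) * V = V from heV]
  have h₁ : ∀ z, bwd (fwd z) = z := fun z => coord_injective α π₀ hπ₀ (by
    show coord α i₀ (ψ (L *ᵥ i (π (V *ᵥ coord α i₀ z)))) = coord α i₀ z
    have hfix := coord_fixed α π₀ hπ₀ z
    rw [hE] at hfix
    rw [hψ, hiπ, mulVec_mulVec, mulVec_mulVec, Matrix.mul_assoc, hLV, ← Matrix.map_mul, hP.eq, hfix])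
  have h₂ : ∀ m, fwd (bwd m) = m := fun m => by
    show π (V *ᵥ coord α i₀ (ψ (L *ᵥ i m))) = m
    rw [hψ, mulVec_mulVec, mulVec_mulVec, ← hLV, show V * (L * V) * L = LinearMap.toMatrix' (i ∘ₗ π) by
      rw [← Matrix.mul_assoc, hVL, heV, hVL]; rfl, toMatrix_mulVec_self π hπ,
      ← LinearMap.comp_apply π i, hπ, LinearMap.id_apply]
  let θ : (ModuleCat.extendScalars α).obj M ≅ descObj D :=
    mkIso fwd bwd h₁ h₂
  have hcomm : ∀ (S : Type u) [CommRing S] [Algebra R S] (f g : R' →ₐ[R] S) (x : M),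
      glue D f g (el (W f) (descObj D) 1 (θ.hom (el α M 1 x))) = el (W g) (descObj D) 1 (θ.hom (el α M 1 x)) := by
    intro S _ _ a₁ a₂ x
    refine coord_injective (W a₂) π hπ ?_
    rw [coord_glue D hπ, coord_el_one, coord_el_one]
    show glueMat D i π S a₁ a₂ *ᵥ (W a₁ ∘ i (π (V *ᵥ coord α i₀ (el α M 1 x)))) =
      W a₂ ∘ i (π (V *ᵥ coord α i₀ (el α M 1 x)))
    rw [hiπ, coord_el_one]
    have hm : ∀ a : R' →ₐ[R] S, (W a : TruncatedWittVector p n R' →+* _) ∘ (V *ᵥ (α ∘ i₀ x)) =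
        V.map (W a) *ᵥ (W (Algebra.ofId R S) ∘ i₀ x) := fun a => funext fun j => by
      rw [Function.comp_apply, RingHom.map_mulVec,
        show (W a : TruncatedWittVector p n R' →+* _) ∘ (α ∘ i₀ x) = W (Algebra.ofId R S) ∘ i₀ x from
          funext fun l => (W_comp_apply a (Algebra.ofId R R') _).trans (by
            rw [show a.comp (Algebra.ofId R R') = Algebra.ofId R S from AlgHom.ext fun r => a.commutes r]; rfl)]
    rw [hm, hm, mulVec_mulVec]
    exact congrArg (fun X => X *ᵥ _) (hinv S a₁ a₂)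
  exact iso_of_invariant D M θ hcomm

end Groth.L28.WittEff
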