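import Groth.Prelude.Def_WittGrp
import Groth.Agent.L15.DW.Basic
import Mathlib.Data.Matrix.Mul
import Mathlib.RingTheory.Nilpotent.Lemmas

/-!
The filtration of truncated Witt vectors by leading zero coefficients, and its graded pieces as modules twisted by
ghost components.
-/

set_option autoImplicit false

namespace Groth.L28.WittEff

universe u

open WittVector

variable {p : ℕ} [Fact p.Prime] {n : ℕ} {A B : Type u} [CommRing A] [CommRing B]

/-- The `j`th ghost component of a truncated Witt vector. -/
noncomputable def gh (j : Fin n) : TruncatedWittVector p n A →+* A :=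
  RingHom.liftOfSurjective (WittVector.truncate (p := p) (R := A) n) (WittVector.truncate_surjective p n A)
    ⟨WittVector.ghostComponent (j : ℕ), fun X hX => by
      rw [mem_ker_truncate] at hX
      rw [RingHom.mem_ker, WittVector.ghostComponent_apply, aeval_wittPolynomial]
      refine Finset.sum_eq_zero fun i hi => ?_
      rw [hX i ((Nat.lt_succ_iff.mp (Finset.mem_range.mp hi)).trans_lt j.2),
        zero_pow (pow_ne_zero _ (Fact.out : p.Prime).ne_zero), mul_zero]⟩

theorem gh_truncate (j : Fin n) (X : WittVector p A) :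
    gh j (WittVector.truncate n X) = WittVector.ghostComponent (j : ℕ) X :=
  RingHom.liftOfRightInverse_comp_apply _ _ _ _ X

theorem gh_natural (f : A →+* B) (j : Fin n) (x : TruncatedWittVector p n A) :
    f (gh j x) = gh j (WittGrp.truncMap p n f x) := by
  obtain ⟨X, rfl⟩ := WittVector.truncate_surjective p n A x
  rw [WittGrp.truncMap_truncate, gh_truncate, gh_truncate, ghostComponent_apply, ghostComponent_apply,
    aeval_wittPolynomial, aeval_wittPolynomial, map_sum]
  exact Finset.sum_congr rfl fun i _ => by simp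

theorem gh_zero (h : 0 < n) (x : TruncatedWittVector p n A) : gh ⟨0, h⟩ x = x.coeff ⟨0, h⟩ := by
  obtain ⟨X, rfl⟩ := WittVector.truncate_surjective p n A x
  rw [gh_truncate, coeff_truncate, ghostComponent_apply, wittPolynomial_zero, MvPolynomial.aeval_X]

theorem coeff_zero_iterate_frobenius (X : WittVector p A) (j : ℕ) :
    (WittVector.frobenius^[j] X).coeff 0 = WittVector.ghostComponent j X := by
  induction j generalizing X with
  | zero => rw [ghostComponent_apply, wittPolynomial_zero, MvPolynomial.aeval_X]; rfl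
  | succ j ih => rw [Function.iterate_succ_apply, ih, ghostComponent_frobenius]

/-- Vanishing of the coefficients below `j`. -/
def Low (j : ℕ) (x : TruncatedWittVector p n A) : Prop := ∀ i : Fin n, (i : ℕ) < j → x.coeff i = 0

theorem low_iff {j : ℕ} (h : j ≤ n) (x : TruncatedWittVector p n A) :
    Low j x ↔ TruncatedWittVector.truncate h x = 0 := by
  constructor
  · intro hx
    ext i
    rw [TruncatedWittVector.coeff_truncate, TruncatedWittVector.coeff_zero]
    exact hx _ i.2
  · intro hx i hi
    have := congrArg (fun y : TruncatedWittVector p j A => y.coeff ⟨i, hi⟩) hx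
    simpa [TruncatedWittVector.coeff_truncate, TruncatedWittVector.coeff_zero] using this

theorem low_zero (j : ℕ) : Low j (0 : TruncatedWittVector p n A) := fun i _ => TruncatedWittVector.coeff_zero p n A i

theorem low_map (f : A →+* B) {j : ℕ} {x : TruncatedWittVector p n A} (hx : Low j x) :
    Low j (WittGrp.truncMap p n f x) := fun i hi => by rw [WittGrp.coeff_truncMap, hx i hi, map_zero]

variable (j : Fin n)

theorem exists_eq_iterate {x : TruncatedWittVector p n A} (hx : Low (j : ℕ) x) :
    ∃ X : WittVector p A,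
      WittVector.truncate n (WittVector.verschiebung^[(j : ℕ)] X) = x ∧ X.coeff 0 = x.coeff j := by
  have h : x.out = WittVector.verschiebung^[(j : ℕ)] (x.out.shift j) :=
    eq_iterate_verschiebung fun i hi => by
      have hin : i < n := hi.trans j.2
      simpa [TruncatedWittVector.out, hin] using hx ⟨i, hin⟩ hi
  refine ⟨x.out.shift j, ?_, ?_⟩
  · rw [← h]
    exact TruncatedWittVector.truncateFun_out x
  · rw [shift_coeff, add_zero]
    exact TruncatedWittVector.coeff_out x j

theorem coeff_truncate_iterate (X : WittVector p A) :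
    (WittVector.truncate n (WittVector.verschiebung^[(j : ℕ)] X)).coeff j = X.coeff 0 := by
  rw [coeff_truncate]
  simpa using iterate_verschiebung_coeff X (j : ℕ) 0

theorem low_truncate_iterate (X : WittVector p A) :
    Low (j : ℕ) (WittVector.truncate n (WittVector.verschiebung^[(j : ℕ)] X)) := fun i hi => by
  rw [coeff_truncate]
  exact iterate_verschiebung_coeff_eq_zero X hi

theorem low_add {x y : TruncatedWittVector p n A} (hx : Low (j : ℕ) x) (hy : Low (j : ℕ) y) :
    Low (j : ℕ) (x + y) := by
  rw [low_iff j.2.le] at hx hy ⊢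
  rw [map_add, hx, hy, add_zero]

theorem low_mul (a : TruncatedWittVector p n A) {x : TruncatedWittVector p n A} (hx : Low (j : ℕ) x) :
    Low (j : ℕ) (a * x) := by
  rw [low_iff j.2.le] at hx ⊢
  rw [map_mul, hx, mul_zero]

theorem low_sum {κ : Type*} (s : Finset κ) {x : κ → TruncatedWittVector p n A} (hx : ∀ k, Low (j : ℕ) (x k)) :
    Low (j : ℕ) (∑ k ∈ s, x k) := by
  simp only [low_iff j.2.le] at hx ⊢
  rw [map_sum]
  exact Finset.sum_eq_zero fun k _ => hx k

theorem coeff_add {x y : TruncatedWittVector p n A} (hx : Low (j : ℕ) x) (hy : Low (j : ℕ) y) :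
    (x + y).coeff j = x.coeff j + y.coeff j := by
  obtain ⟨X, rfl, hX⟩ := exists_eq_iterate j hx
  obtain ⟨Y, rfl, hY⟩ := exists_eq_iterate j hy
  rw [← map_add, ← iterate_map_add, coeff_truncate_iterate, add_coeff_zero, coeff_truncate_iterate,
    coeff_truncate_iterate]

theorem coeff_mul (a : TruncatedWittVector p n A) {x : TruncatedWittVector p n A} (hx : Low (j : ℕ) x) :
    (a * x).coeff j = gh j a * x.coeff j := by
  obtain ⟨X, rfl, hX⟩ := exists_eq_iterate j hx
  obtain ⟨Y, rfl⟩ := WittVector.truncate_surjective p n A a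
  rw [← map_mul, mul_comm Y, iterate_verschiebung_mul_left, coeff_truncate_iterate, mul_coeff_zero,
    coeff_zero_iterate_frobenius, coeff_truncate_iterate, gh_truncate, mul_comm]

theorem low_sub {x y : TruncatedWittVector p n A} (hx : Low (j : ℕ) x) (hy : Low (j : ℕ) y) :
    Low (j : ℕ) (x - y) := by
  rw [low_iff j.2.le] at hx hy ⊢
  rw [map_sub, hx, hy, sub_zero]

theorem coeff_sub {x y : TruncatedWittVector p n A} (hx : Low (j : ℕ) x) (hy : Low (j : ℕ) y) :
    (x - y).coeff j = x.coeff j - y.coeff j := by
  have h := coeff_add j (low_sub j hx hy) hy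
  rw [sub_add_cancel] at h
  exact eq_sub_of_add_eq h.symm

theorem coeff_sum {κ : Type*} (s : Finset κ) {x : κ → TruncatedWittVector p n A} (hx : ∀ k, Low (j : ℕ) (x k)) :
    (∑ k ∈ s, x k).coeff j = ∑ k ∈ s, (x k).coeff j := by
  classical
  induction s using Finset.induction_on with
  | empty => simp [TruncatedWittVector.coeff_zero]
  | insert a s ha ih => rw [Finset.sum_insert ha, Finset.sum_insert ha, coeff_add j (hx a) (low_sum j s hx), ih]

theorem low_succ {x : TruncatedWittVector p n A} (hx : Low (j : ℕ) x) (h : x.coeff j = 0) :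
    Low ((j : ℕ) + 1) x := fun i hi => by
  rcases Nat.lt_succ_iff_lt_or_eq.mp hi with hi | hi
  · exact hx i hi
  · rwa [Fin.ext hi]

theorem exists_low_coeff_eq (a : A) :
    ∃ x : TruncatedWittVector p n A, Low (j : ℕ) x ∧ x.coeff j = a :=
  ⟨TruncatedWittVector.mk p fun i => if i = j then a else 0, fun i hi => by
    rw [TruncatedWittVector.coeff_mk, if_neg (fun h => by rw [h] at hi; exact lt_irrefl _ hi)],
    by rw [TruncatedWittVector.coeff_mk, if_pos rfl]⟩

theorem isNilpotent_of_coeff_zero (hp : IsNilpotent (p : A)) (h : 0 < n) {x : TruncatedWittVector p n A}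
    (hx : x.coeff ⟨0, h⟩ = 0) : IsNilpotent x := by
  obtain ⟨X, rfl⟩ := WittVector.truncate_surjective p n A x
  rw [coeff_truncate] at hx
  exact Groth.L15.DW.isNilpotent_truncate_IV hp n (Groth.L15.DW.mem_IV_iff.mpr hx)

open Matrix in
theorem low_mulVec {ι κ : Type*} [Fintype κ] (M : Matrix ι κ (TruncatedWittVector p n A))
    {v : κ → TruncatedWittVector p n A} (hv : ∀ k, Low (j : ℕ) (v k)) (i : ι) : Low (j : ℕ) ((M *ᵥ v) i) :=
  low_sum j _ fun k => low_mul j _ (hv k)

open Matrix in
theorem coeff_mulVec {ι κ : Type*} [Fintype κ] (M : Matrix ι κ (TruncatedWittVector p n A))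
    {v : κ → TruncatedWittVector p n A} (hv : ∀ k, Low (j : ℕ) (v k)) :
    (fun i => ((M *ᵥ v) i).coeff j) = M.map (gh j) *ᵥ fun k => (v k).coeff j := by
  funext i
  simp only [mulVec, dotProduct, Matrix.map_apply]
  rw [coeff_sum j _ fun k => low_mul j _ (hv k)]
  exact Finset.sum_congr rfl fun k _ => coeff_mul j _ (hv k)

/-- A square matrix whose entries are nilpotent is nilpotent. -/
theorem isNilpotent_matrix {S : Type*} [CommRing S] {ι : Type*} [Fintype ι] [DecidableEq ι] (X : Matrix ι ι S)
    (hX : ∀ i k, IsNilpotent (X i k)) : IsNilpotent X := by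
  let J : Ideal S := Ideal.span (Set.range fun q : ι × ι => X q.1 q.2)
  have hJ : IsNilpotent J := by
    refine (Ideal.FG.isNilpotent_iff_le_nilradical (Submodule.fg_span (Set.finite_range _))).mpr ?_
    rw [Ideal.span_le]
    rintro _ ⟨⟨i, k⟩, rfl⟩
    exact mem_nilradical.mpr (hX i k)
  obtain ⟨k, hk⟩ := hJ
  have hpow : ∀ m, ∀ i l, (X ^ m) i l ∈ J ^ m := by
    intro m
    induction m with
    | zero => intro i l; simp
    | succ m ih =>
      intro i l
      rw [pow_succ X m, Matrix.mul_apply, pow_succ]
      exact Ideal.sum_mem _ fun t _ => Ideal.mul_mem_mul (ih i t) (Ideal.subset_span ⟨(t, l), rfl⟩)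
  refine ⟨k, ?_⟩
  ext i l
  have := hpow k i l
  rw [hk] at this
  simpa using this

end Groth.L28.WittEff
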