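import Groth.Agent.L28.WittEff.Lin
import Groth.Agent.L28.WittEff.Ghost
import Groth.Agent.L01.WittEq
import Mathlib.LinearAlgebra.Matrix.Basis
import Mathlib.Data.Matrix.Basis

/-!
Effectivity of descent for matrix data over truncated Witt vectors along a faithfully flat ring map.
-/

set_option autoImplicit false

open TensorProduct Matrix

namespace Groth.L28.WittEff

universe u

variable (p : ℕ) [Fact p.Prime] (n : ℕ) (R R' : Type u) [CommRing R] [CommRing R'] [Algebra R R']

/-- Truncated Witt vectors applied to an algebra map. -/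
noncomputable abbrev W {p : ℕ} [Fact p.Prime] {n : ℕ} {R : Type u} [CommRing R] {A B : Type u} [CommRing A]
    [Algebra R A] [CommRing B] [Algebra R B] (f : A →ₐ[R] B) :
    TruncatedWittVector p n A →+* TruncatedWittVector p n B :=
  WittGrp.truncMap p n f.toRingHom

/-- A descent datum, in matrices, for the image of an idempotent matrix over `W_n(R')`. -/
structure Datum (N : ℕ) where
  /-- The idempotent over `W_n(R')`. -/
  e : Matrix (Fin N) (Fin N) (TruncatedWittVector p n R')
  /-- The glueing matrices. -/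
  Φ : ∀ (S : Type u) [CommRing S] [Algebra R S], (R' →ₐ[R] S) → (R' →ₐ[R] S) →
    Matrix (Fin N) (Fin N) (TruncatedWittVector p n S)
  self : ∀ (S : Type u) [CommRing S] [Algebra R S] (f : R' →ₐ[R] S), Φ S f f = e.map (W f)
  comp : ∀ (S : Type u) [CommRing S] [Algebra R S] (f g h : R' →ₐ[R] S), Φ S g h * Φ S f g = Φ S f h
  natural : ∀ (S S' : Type u) [CommRing S] [Algebra R S] [CommRing S'] [Algebra R S'] (k : S →ₐ[R] S')
    (f g : R' →ₐ[R] S), (Φ S f g).map (W k) = Φ S' (k.comp f) (k.comp g)

variable {p n R R'}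

theorem W_comp_apply {A B C : Type u} [CommRing A] [Algebra R A] [CommRing B] [Algebra R B] [CommRing C] [Algebra R C]
    (g : B →ₐ[R] C) (f : A →ₐ[R] B) (x : TruncatedWittVector p n A) : W g (W f x) = W (g.comp f) x :=
  TruncatedWittVector.ext fun i => by simp [WittGrp.coeff_truncMap]

theorem W_id_apply {A : Type u} [CommRing A] [Algebra R A] (x : TruncatedWittVector p n A) :
    W (AlgHom.id R A) x = x :=
  TruncatedWittVector.ext fun i => by simp [WittGrp.coeff_truncMap]

theorem gh_map {A B : Type u} [CommRing A] [Algebra R A] [CommRing B] [Algebra R B] {ι κ : Type*} (j : Fin n)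
    (f : A →ₐ[R] B) (M : Matrix ι κ (TruncatedWittVector p n A)) :
    (M.map (gh j)).map f = (M.map (W f)).map (gh j) :=
  Matrix.ext fun i k => gh_natural f.toRingHom j (M i k)

namespace Datum

variable {N : ℕ} (D : Datum p n R R' N)

theorem mul_left {S : Type u} [CommRing S] [Algebra R S] (f g : R' →ₐ[R] S) :
    D.e.map (W g) * D.Φ S f g = D.Φ S f g := by
  rw [← D.self, D.comp]

theorem mul_right {S : Type u} [CommRing S] [Algebra R S] (f g : R' →ₐ[R] S) :
    D.Φ S f g * D.e.map (W f) = D.Φ S f g := by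
  rw [← D.self, D.comp]

/-- The universal glueing matrix. -/
noncomputable def can : Matrix (Fin N) (Fin N) (TruncatedWittVector p n (T2 R R')) :=
  D.Φ (T2 R R') (γ R R') (δ R R')

theorem can_cocycle :
    D.can.map (W (p23 R R')) * D.can.map (W (p12 R R')) = D.can.map (W (p13 R R')) := by
  rw [can, D.natural, D.natural, D.natural, ← p12_δ R R', ← p12_γ R R', p23_δ R R', D.comp]

theorem can_mul : D.can.map (W (Algebra.TensorProduct.lmul' R)) = D.e := by
  rw [can, D.natural, show (Algebra.TensorProduct.lmul' R).comp (γ R R') = AlgHom.id R R' by ext x; simp,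
    show (Algebra.TensorProduct.lmul' R).comp (δ R R') = AlgHom.id R R' by ext x; simp, D.self]
  exact Matrix.ext fun i k => W_id_apply (R := R) _

theorem e_mul_e : D.e * D.e = D.e := by
  have h := D.mul_left (AlgHom.id R R') (AlgHom.id R R')
  rw [D.self] at h
  rwa [show D.e.map (W (AlgHom.id R R')) = D.e from Matrix.ext fun i k => W_id_apply (R := R) _] at h

/-- The invariance condition on a vector. -/
noncomputable def defect (v : Fin N → TruncatedWittVector p n R') : Fin N → TruncatedWittVector p n (T2 R R') :=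
  D.can *ᵥ (W (γ R R') ∘ v) - W (δ R R') ∘ v

theorem can_gh_cocycle (j : Fin n) :
    (D.can.map (gh j)).map (p23 R R') * (D.can.map (gh j)).map (p12 R R') = (D.can.map (gh j)).map (p13 R R') := by
  rw [gh_map, gh_map, gh_map, ← Matrix.map_mul, D.can_cocycle]

theorem can_gh_mul (j : Fin n) :
    (D.can.map (gh j)).map (Algebra.TensorProduct.lmul' R) = D.e.map (gh j) := by
  rw [gh_map, D.can_mul]

theorem d1_defect (v : Fin N → TruncatedWittVector p n R') :
    D.can.map (W (p23 R R')) *ᵥ (W (p12 R R') ∘ D.defect v) + W (p23 R R') ∘ D.defect v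
      - W (p13 R R') ∘ D.defect v = 0 := by
  have hs : ∀ g : T2 R R' →ₐ[R] T3 R R', W g ∘ D.defect v =
      D.can.map (W g) *ᵥ (W (g.comp (γ R R')) ∘ v) - W (g.comp (δ R R')) ∘ v := fun g => by
    funext i
    rw [Function.comp_apply, defect, Pi.sub_apply, map_sub, RingHom.map_mulVec]
    simp only [Function.comp_def, W_comp_apply, Pi.sub_apply]
  rw [hs, hs, hs, ← p12_δ R R', ← p12_γ R R', p23_δ R R', mulVec_sub, mulVec_mulVec, D.can_cocycle]
  abel

theorem defect_sub (v w : Fin N → TruncatedWittVector p n R') : D.defect (v - w) = D.defect v - D.defect w := by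
  rw [defect, defect, defect,
    show W (γ R R') ∘ (v - w) = (W (γ R R') ∘ v - W (γ R R') ∘ w :
      Fin N → TruncatedWittVector p n (T2 R R')) from funext fun i => map_sub _ _ _,
    show W (δ R R') ∘ (v - w) = (W (δ R R') ∘ v - W (δ R R') ∘ w :
      Fin N → TruncatedWittVector p n (T2 R R')) from funext fun i => map_sub _ _ _, mulVec_sub]
  abel

theorem e_mul_defect {v : Fin N → TruncatedWittVector p n R'} (hv : D.e *ᵥ v = v) :
    D.e.map (W (δ R R')) *ᵥ D.defect v = D.defect v := by
  rw [defect, mulVec_sub, mulVec_mulVec, can, D.mul_left]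
  congr 1
  funext i
  rw [← RingHom.map_mulVec, hv]
  rfl

variable [Module.FaithfullyFlat R R']

/-- Improvement of an almost invariant vector by one step of the filtration. -/
theorem exists_improve {j : Fin n} {v : Fin N → TruncatedWittVector p n R'}
    (hv : D.e *ᵥ v = v) (hc : ∀ i, Low (j : ℕ) (D.defect v i)) :
    ∃ w : Fin N → TruncatedWittVector p n R', D.e *ᵥ w = w ∧ (∀ i, Low (j : ℕ) (w i)) ∧
      ∀ i, Low ((j : ℕ) + 1) (D.defect (v - w) i) := by
  let cj : Fin N → T2 R R' := fun i => (D.defect v i).coeff j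
  have hd1 : d1 (D.can.map (gh j)) cj = 0 := by
    funext i
    have h := congrFun (D.d1_defect v) i
    have l12 : ∀ k, Low (j : ℕ) ((W (p12 R R') ∘ D.defect v) k) := fun k => low_map _ (hc k)
    have l23 : Low (j : ℕ) ((W (p23 R R') ∘ D.defect v) i) := low_map _ (hc i)
    have l13 : Low (j : ℕ) ((W (p13 R R') ∘ D.defect v) i) := low_map _ (hc i)
    have lM := low_mulVec j (D.can.map (W (p23 R R'))) l12 i
    have h2 := congrArg (fun x : TruncatedWittVector p n (T3 R R') => x.coeff j) h
    simp only [Pi.add_apply, Pi.sub_apply, Pi.zero_apply] at h2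
    rw [coeff_sub j (low_add j lM l23) l13, coeff_add j lM l23, TruncatedWittVector.coeff_zero,
      congrFun (coeff_mulVec j _ l12) i, ← gh_map] at h2
    rw [d1_apply, Pi.zero_apply, ← h2]
    simp only [Pi.add_apply, Pi.sub_apply, Function.comp_apply, WittGrp.coeff_truncMap, cj]
    rfl
  obtain ⟨f, hf⟩ := exists_d0_eq _ (D.can_gh_cocycle j) hd1
  choose w₀ hw₀ hw₀' using fun i => exists_low_coeff_eq (p := p) j (f i)
  let w := D.e *ᵥ w₀
  have hw : ∀ i, Low (j : ℕ) (w i) := fun i => low_mulVec j D.e hw₀ i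
  have hwe : D.e *ᵥ w = w := by
    show D.e *ᵥ (D.e *ᵥ w₀) = D.e *ᵥ w₀
    rw [mulVec_mulVec, D.e_mul_e]
  have hwj : (fun i => (w i).coeff j) = D.e.map (gh j) *ᵥ f := by
    rw [show f = fun k => (w₀ k).coeff j from funext fun k => (hw₀' k).symm]
    exact coeff_mulVec j D.e hw₀
  refine ⟨w, hwe, hw, fun i => ?_⟩
  rw [D.defect_sub]
  have l1 : ∀ k, Low (j : ℕ) ((W (γ R R') ∘ w) k) := fun k => low_map _ (hw k)
  have l2 : ∀ k, Low (j : ℕ) ((W (δ R R') ∘ w) k) := fun k => low_map _ (hw k)
  have lw : Low (j : ℕ) (D.defect w i) := low_sub j (low_mulVec j _ l1 i) (l2 i)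
  refine low_succ j (low_sub j (hc i) lw) ?_
  rw [Pi.sub_apply, coeff_sub j (hc i) lw, sub_eq_zero]
  have e1 : (fun i => (D.defect w i).coeff j) = d0 (D.can.map (gh j)) (D.e.map (gh j) *ᵥ f) := by
    rw [d0_apply, ← hwj]
    funext i
    simp only [defect, Pi.sub_apply]
    rw [coeff_sub j (low_mulVec j _ l1 i) (l2 i), congrFun (coeff_mulVec j _ l1) i]
    simp only [Function.comp_apply, WittGrp.coeff_truncMap]
    rfl
  rw [show (D.defect w i).coeff j = _ from congrFun e1 i]
  have e2 : (D.e.map (gh j)).map (δ R R') *ᵥ cj = cj := by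
    rw [gh_map, ← coeff_mulVec j _ hc, D.e_mul_defect hv]
  have e3 : D.can.map (gh j) * (D.e.map (gh j)).map (γ R R') = D.can.map (gh j) := by
    rw [gh_map, ← Matrix.map_mul, can, D.mul_right]
  have e4 : (D.e.map (gh j)).map (δ R R') * D.can.map (gh j) = D.can.map (gh j) := by
    rw [gh_map, ← Matrix.map_mul, can, D.mul_left]
  have e5 : d0 (D.can.map (gh j)) (D.e.map (gh j) *ᵥ f) = cj :=
    calc d0 (D.can.map (gh j)) (D.e.map (gh j) *ᵥ f)
        = (D.e.map (gh j)).map (δ R R') *ᵥ d0 (D.can.map (gh j)) f := by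
          rw [d0_apply, d0_apply, mulVec_sub, mulVec_mulVec, e4, comp_mulVec, mulVec_mulVec, e3, comp_mulVec]
      _ = cj := by rw [hf, e2]
  exact (congrFun e5 i).symm

/-- Invariant vectors of level one lift to invariant vectors. -/
theorem exists_invariant (h0 : 0 < n) {u : Fin N → R'}
    (hu : d0 (D.can.map (gh (⟨0, h0⟩ : Fin n))) u = 0) :
    ∃ v : Fin N → TruncatedWittVector p n R',
      D.e *ᵥ v = v ∧ D.defect v = 0 ∧ (fun i => (v i).coeff ⟨0, h0⟩) = u := by
  let z : Fin n := ⟨0, h0⟩
  have hvan : ∀ {A : Type u} [CommRing A] (x : TruncatedWittVector p n A), Low (z : ℕ) x := fun x i hi => absurd hi (Nat.not_lt_zero _)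
  have heu : D.e.map (gh z) *ᵥ u = u := by
    rw [d0_apply, sub_eq_zero] at hu
    have h : Algebra.TensorProduct.lmul' R (S := R') ∘ (D.can.map (gh z) *ᵥ (γ R R' ∘ u)) =
        Algebra.TensorProduct.lmul' R (S := R') ∘ (δ R R' ∘ u) := by rw [hu]
    rw [comp_mulVec, D.can_gh_mul] at h
    rwa [show Algebra.TensorProduct.lmul' R (S := R') ∘ (γ R R' ∘ u) = u from funext fun i => by simp,
      show Algebra.TensorProduct.lmul' R (S := R') ∘ (δ R R' ∘ u) = u from funext fun i => by simp] at h
  suffices key : ∀ j : ℕ, j + 1 ≤ n → ∃ v : Fin N → TruncatedWittVector p n R',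
      D.e *ᵥ v = v ∧ (∀ i, Low (j + 1) (D.defect v i)) ∧ (fun i => (v i).coeff z) = u by
    obtain ⟨v, h1, h2, h3⟩ := key (n - 1) (by omega)
    refine ⟨v, h1, funext fun i => TruncatedWittVector.ext fun k => ?_, h3⟩
    rw [Pi.zero_apply, TruncatedWittVector.coeff_zero]
    exact h2 i k (by have := k.2; omega)
  intro j
  induction j with
  | zero =>
    intro _
    choose v₀ _ hv₀ using fun i => exists_low_coeff_eq (p := p) z (u i)
    have hc : (fun i => ((D.e *ᵥ v₀) i).coeff z) = u := by
      rw [coeff_mulVec z D.e fun k => hvan (v₀ k), show (fun k => (v₀ k).coeff z) = u from funext hv₀, heu]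
    refine ⟨D.e *ᵥ v₀, by rw [mulVec_mulVec, D.e_mul_e], fun i => low_succ z (hvan _) ?_, hc⟩
    simp only [defect, Pi.sub_apply]
    rw [coeff_sub z (hvan _) (hvan _), congrFun (coeff_mulVec z _ fun k => hvan _) i]
    have := congrFun hu i
    rw [d0_apply, ← hc] at this
    simpa [WittGrp.coeff_truncMap, Function.comp_def] using this
  | succ j ih =>
    intro hj
    obtain ⟨v, h1, h2, h3⟩ := ih (by omega)
    obtain ⟨w, hw1, hw2, hw3⟩ := D.exists_improve (j := ⟨j + 1, by omega⟩) h1 h2
    refine ⟨v - w, by rw [mulVec_sub, h1, hw1], hw3, funext fun i => ?_⟩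
    rw [Pi.sub_apply, coeff_sub z (hvan _) (hvan _), hw2 i z (Nat.succ_pos j), sub_zero]
    exact congrFun h3 i

/-- Invariant vectors generating the image of the idempotent. -/
theorem exists_generators (hp : IsNilpotent (p : R')) (h0 : 0 < n) :
    ∃ (r : ℕ) (V : Matrix (Fin N) (Fin r) (TruncatedWittVector p n R'))
      (A : Matrix (Fin r) (Fin N) (TruncatedWittVector p n R')),
      D.e * V = V ∧ D.can * V.map (W (γ R R')) = V.map (W (δ R R')) ∧ V * A = D.e := by
  classical
  let z : Fin n := ⟨0, h0⟩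
  let K := LinearMap.ker (d0 (D.can.map (gh z)))
  have hspan : ∀ l, (fun i => (D.e.map (gh z)) i l) ∈ Submodule.span R' (K : Set (Fin N → R')) := fun l => by
    refine mem_span_ker _ (D.can_gh_cocycle z) ?_
    rw [D.can_gh_mul]
    funext i
    have := congrFun (congrFun (congrArg (fun M => M.map (gh z)) D.e_mul_e) i) l
    rw [Matrix.map_mul, Matrix.mul_apply] at this
    exact this
  choose S hS hS' using fun l => Submodule.mem_span_finite_of_mem_span (hspan l)
  let S' : Finset (Fin N → R') := Finset.univ.biUnion S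
  have hS'K : ∀ x ∈ S', x ∈ K := fun x hx => by
    obtain ⟨l, _, hl⟩ := Finset.mem_biUnion.mp hx
    exact hS l hl
  let U : Fin S'.card → Fin N → R' := fun k => (S'.equivFin.symm k : Fin N → R')
  choose v hv1 hv2 hv3 using fun k => D.exists_invariant h0 (u := U k) (hS'K _ (S'.equivFin.symm k).2)
  have hU : ∀ l, ∃ c : Fin S'.card → R', ∑ k, c k • U k = fun i => (D.e.map (gh z)) i l := fun l => by
    refine (Submodule.mem_span_range_iff_exists_fun R').mp (Submodule.span_mono ?_ (hS' l))
    intro x hx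
    exact ⟨S'.equivFin ⟨x, Finset.mem_biUnion.mpr ⟨l, Finset.mem_univ _, hx⟩⟩, by simp [U]⟩
  choose c hc using hU
  choose a _ ha using fun l k => exists_low_coeff_eq (p := p) z (c l k)
  let V : Matrix (Fin N) (Fin S'.card) (TruncatedWittVector p n R') := .of fun i k => v k i
  have heV : D.e * V = V := Matrix.ext fun i k => congrFun (hv1 k) i
  let X := V * (Matrix.of fun k l => a l k) * D.e
  have hX : IsNilpotent (D.e - X) := by
    refine isNilpotent_matrix _ fun i l => isNilpotent_of_coeff_zero hp h0 ?_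
    have hz : ∀ x : TruncatedWittVector p n R', x.coeff z = gh z x := fun x => (gh_zero h0 x).symm
    have h1 : (V * Matrix.of fun k l => a l k).map (gh z) = D.e.map (gh z) := by
      refine Matrix.ext fun i l => ?_
      simp only [Matrix.map_apply, Matrix.mul_apply, map_sum, map_mul]
      rw [show gh z (D.e i l) = (∑ k, c l k • U k) i from (congrFun (hc l) i).symm, Finset.sum_apply]
      refine Finset.sum_congr rfl fun k _ => ?_
      rw [Pi.smul_apply, smul_eq_mul, ← hz, ← hz]
      simp only [V, Matrix.of_apply]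
      rw [ha, mul_comm]
      congr 1
      exact congrFun (hv3 k) i
    rw [hz, ← Matrix.map_apply (f := gh z), Matrix.map_sub _ (map_sub (gh z)), Matrix.map_mul, h1,
      ← Matrix.map_mul, D.e_mul_e, sub_self, Matrix.zero_apply]
  obtain ⟨u, hu⟩ := hX.isUnit_one_sub
  have heX : D.e * X = X := by rw [← Matrix.mul_assoc, ← Matrix.mul_assoc, heV]
  have hXe : X * D.e = X := by rw [Matrix.mul_assoc, D.e_mul_e]
  have h1 : (u : Matrix (Fin N) (Fin N) (TruncatedWittVector p n R')) * D.e = X := by
    rw [hu, sub_mul, sub_mul, one_mul, D.e_mul_e, hXe]; abel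
  have h2 : D.e * (u : Matrix (Fin N) (Fin N) (TruncatedWittVector p n R')) = X := by
    rw [hu, mul_sub, mul_sub, mul_one, D.e_mul_e, heX]; abel
  have h3 : X * (↑u⁻¹ : Matrix (Fin N) (Fin N) (TruncatedWittVector p n R')) = D.e := by
    rw [← h2, Matrix.mul_assoc, Units.mul_inv, Matrix.mul_one]
  refine ⟨_, V, (Matrix.of fun k l => a l k) * D.e * (↑u⁻¹ : Matrix (Fin N) (Fin N) (TruncatedWittVector p n R')), heV,
    Matrix.ext fun i k => ?_, by rw [← Matrix.mul_assoc, ← Matrix.mul_assoc]; exact h3⟩
  have := congrFun (hv2 k) i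
  rw [defect, Pi.sub_apply, Pi.zero_apply, sub_eq_zero] at this
  exact this

/-- The dual datum. -/
noncomputable def dual : Datum p n R R' N where
  e := D.eᵀ
  Φ S _ _ f g := (D.Φ S g f)ᵀ
  self S _ _ f := by rw [D.self, Matrix.transpose_map]
  comp S _ _ f g h := by rw [← Matrix.transpose_mul, D.comp]
  natural S S' _ _ _ _ k f g := by rw [← D.natural S S' k g f, Matrix.transpose_map]

omit [Module.FaithfullyFlat R R'] in
theorem dual_can : D.dual.can = (D.Φ (T2 R R') (δ R R') (γ R R'))ᵀ := rfl

end Datum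

/-- A matrix equation `G X G = G` over `R` is solvable as soon as it is solvable over a faithfully flat algebra. -/
theorem exists_regular [Module.FaithfullyFlat R R'] {r s : ℕ} (g : Matrix (Fin s) (Fin r) R)
    (X' : Matrix (Fin r) (Fin s) R')
    (h : g.map (algebraMap R R') * X' * g.map (algebraMap R R') = g.map (algebraMap R R')) :
    ∃ X : Matrix (Fin r) (Fin s) R, g * X * g = g := by
  let L : Matrix (Fin r) (Fin s) R →ₗ[R] Matrix (Fin s) (Fin r) R :=
    { toFun := fun X => g * X * g
      map_add' := fun X Y => by rw [Matrix.mul_add, Matrix.add_mul]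
      map_smul' := fun a X => by rw [Matrix.mul_smul, Matrix.smul_mul]; rfl }
  let q := (LinearMap.range L).mkQ
  suffices hq : q g = 0 by
    obtain ⟨X, hX⟩ := (Submodule.Quotient.mk_eq_zero _).mp hq
    exact ⟨X, hX⟩
  let E : Fin s → Fin r → Matrix (Fin s) (Fin r) R := fun i k => Matrix.single i k (1 : R)
  have hdec : ∀ M : Matrix (Fin s) (Fin r) R, q M = ∑ i, ∑ k, M i k • q (E i k) := fun M => by
    conv_lhs => rw [Matrix.matrix_eq_sum_single M]
    simp only [map_sum]
    refine Finset.sum_congr rfl fun i _ => Finset.sum_congr rfl fun k _ => ?_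
    rw [← map_smul, Matrix.smul_single, smul_eq_mul, mul_one]
  let ψ : Matrix (Fin s) (Fin r) R' →+ R' ⊗[R] (Matrix (Fin s) (Fin r) R ⧸ LinearMap.range L) :=
    { toFun := fun Y => ∑ i, ∑ k, Y i k ⊗ₜ[R] q (E i k)
      map_zero' := by simp
      map_add' := fun Y Z => by simp [add_tmul, Finset.sum_add_distrib] }
  have key : ∀ (M : Matrix (Fin s) (Fin r) R) (x : R'),
      ψ (x • M.map (algebraMap R R')) = x ⊗ₜ[R] q M := fun M x => by
    show ∑ i, ∑ k, (x * algebraMap R R' (M i k)) ⊗ₜ[R] q (E i k) = _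
    rw [hdec M, TensorProduct.tmul_sum]
    refine Finset.sum_congr rfl fun i _ => ?_
    rw [TensorProduct.tmul_sum]
    refine Finset.sum_congr rfl fun k _ => ?_
    rw [TensorProduct.tmul_smul, TensorProduct.smul_tmul', Algebra.smul_def, mul_comm]
  apply Module.FaithfullyFlat.tensorProduct_mk_injective (A := R) (B := R') (Matrix (Fin s) (Fin r) R ⧸ LinearMap.range L)
  show (1 : R') ⊗ₜ[R] q g = (1 : R') ⊗ₜ[R] 0
  rw [tmul_zero, ← key g 1, one_smul, ← h]
  conv_lhs => rw [Matrix.matrix_eq_sum_single X']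
  simp only [Matrix.mul_sum, Matrix.sum_mul, map_sum]
  refine Finset.sum_eq_zero fun a _ => Finset.sum_eq_zero fun b _ => ?_
  rw [show g.map (algebraMap R R') * Matrix.single a b (X' a b) * g.map (algebraMap R R') =
      X' a b • (g * Matrix.single a b (1 : R) * g).map (algebraMap R R') by
    rw [Matrix.map_mul, Matrix.map_mul, Matrix.map_single, map_one, ← Matrix.smul_mul, ← Matrix.mul_smul,
      Matrix.smul_single, smul_eq_mul, mul_one]]
  rw [key, show q (g * Matrix.single a b (1 : R) * g) = 0 from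
    (Submodule.Quotient.mk_eq_zero _).mpr ⟨Matrix.single a b (1 : R), rfl⟩, tmul_zero]

/-- Matrices with equal pullbacks along the two inclusions come from `R`. -/
theorem exists_matrix_descent [Module.FaithfullyFlat R R'] {κ ι : Type*}
    (P : Matrix κ ι (TruncatedWittVector p n R')) (h : P.map (W (γ R R')) = P.map (W (δ R R'))) :
    ∃ P₀ : Matrix κ ι (TruncatedWittVector p n R), P₀.map (W (Algebra.ofId R R')) = P := by
  have h1 : ∀ a b (i : Fin n), ∃ x : R, algebraMap R R' x = (P a b).coeff i := fun a b i => by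
    refine Groth.L01.WittEq.exists_algebraMap_eq _ ?_
    have := congrArg (fun y : TruncatedWittVector p n (T2 R R') => y.coeff i) (congrFun (congrFun h a) b)
    simpa [WittGrp.coeff_truncMap] using this
  choose x hx using h1
  refine ⟨.of fun a b => TruncatedWittVector.mk p (x a b), Matrix.ext fun a b => TruncatedWittVector.ext fun i => ?_⟩
  simp [WittGrp.coeff_truncMap, hx]

theorem ofId_injective [Module.FaithfullyFlat R R'] {κ ι : Type*} :
    Function.Injective fun P : Matrix κ ι (TruncatedWittVector p n R) => P.map (W (Algebra.ofId R R')) := by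
  intro P Q h
  refine Matrix.ext fun a b => TruncatedWittVector.ext fun i => FaithfulSMul.algebraMap_injective R R' ?_
  have := congrArg (fun y : TruncatedWittVector p n R' => y.coeff i) (congrFun (congrFun h a) b)
  simpa [WittGrp.coeff_truncMap] using this

/-- **Effectivity.** The image of the idempotent descends, compatibly with the glueing matrices. -/
theorem Datum.exists_descent [Module.FaithfullyFlat R R'] {N : ℕ} (D : Datum p n R R' N) (hp : IsNilpotent (p : R)) :
    ∃ (r : ℕ) (P₀ : Matrix (Fin r) (Fin r) (TruncatedWittVector p n R))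
      (V : Matrix (Fin N) (Fin r) (TruncatedWittVector p n R'))
      (L : Matrix (Fin r) (Fin N) (TruncatedWittVector p n R')),
      IsIdempotentElem P₀ ∧ D.e * V = V ∧ L * D.e = L ∧ V * L = D.e ∧
        L * V = P₀.map (W (Algebra.ofId R R')) ∧
        ∀ (S : Type u) [CommRing S] [Algebra R S] (f g : R' →ₐ[R] S), D.Φ S f g * V.map (W f) = V.map (W g) := by
  rcases Nat.eq_zero_or_pos n with rfl | h0
  · have hs : ∀ (A : Type u), Subsingleton (TruncatedWittVector p 0 A) :=
      fun A => ⟨fun x y => TruncatedWittVector.ext fun i => i.elim0⟩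
    have := hs
    exact ⟨0, 0, 0, 0, Subsingleton.elim _ _, Subsingleton.elim _ _, Subsingleton.elim _ _,
      Subsingleton.elim _ _, Subsingleton.elim _ _, fun S _ _ f g => Subsingleton.elim _ _⟩
  have hp' : IsNilpotent (p : R') := by simpa using hp.map (algebraMap R R')
  obtain ⟨r, V, A, heV, hV, hA⟩ := D.exists_generators hp' h0
  obtain ⟨s, V', A', heW', hW', hA'⟩ := D.dual.exists_generators hp' h0
  -- invariant rows
  let Wt := V'ᵀ
  have hWe : Wt * D.e = Wt := by
    simpa [Datum.dual, Matrix.transpose_mul] using congrArg Matrix.transpose heW'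
  have hB : A'ᵀ * Wt = D.e := by
    simpa [Datum.dual, Matrix.transpose_mul] using congrArg Matrix.transpose hA'
  have hWΨ : Wt.map (W (γ R R')) * D.Φ (T2 R R') (δ R R') (γ R R') = Wt.map (W (δ R R')) := by
    rw [D.dual_can] at hW'
    simpa [Wt, Matrix.transpose_mul, Matrix.transpose_map] using congrArg Matrix.transpose hW'
  have hWΦ : Wt.map (W (δ R R')) * D.can = Wt.map (W (γ R R')) := by
    rw [← hWΨ, Matrix.mul_assoc, Datum.can, D.comp, D.self, ← Matrix.map_mul, hWe]
  -- the Gram matrix
  let G := Wt * V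
  have hG : G.map (W (γ R R')) = G.map (W (δ R R')) := by
    rw [Matrix.map_mul, Matrix.map_mul, ← hWΦ, Matrix.mul_assoc, hV]
  obtain ⟨G₀, hG₀⟩ := exists_matrix_descent G hG
  let z : Fin n := ⟨0, h0⟩
  let g₀ := G₀.map (gh z)
  have hg : g₀.map (algebraMap R R') = G.map (gh z) :=
    (gh_map z (Algebra.ofId R R') G₀).trans (by rw [hG₀])
  obtain ⟨X₁, hX₁⟩ := exists_regular (R' := R') g₀ ((A * A'ᵀ).map (gh z)) (by
    rw [hg, ← Matrix.map_mul, ← Matrix.map_mul]
    congr 1
    calc G * (A * A'ᵀ) * G = Wt * (V * A) * ((A'ᵀ * Wt) * V) := by simp only [G, Matrix.mul_assoc]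
      _ = G := by rw [hA, hB, heV, hWe])
  choose x _ hx using fun a b => exists_low_coeff_eq (p := p) (A := R) z (X₁ a b)
  let X : Matrix (Fin r) (Fin s) (TruncatedWittVector p n R') := (Matrix.of x).map (W (Algebra.ofId R R'))
  have hXγδ : X.map (W (γ R R')) = X.map (W (δ R R')) := by
    refine Matrix.ext fun a b => TruncatedWittVector.ext fun i => ?_
    simp [X, WittGrp.coeff_truncMap]
  let L₀ := X * Wt
  have hL₀e : L₀ * D.e = L₀ := by rw [Matrix.mul_assoc, hWe]
  have hL₀ : L₀.map (W (δ R R')) * D.can = L₀.map (W (γ R R')) := by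
    rw [Matrix.map_mul, Matrix.map_mul, Matrix.mul_assoc, hWΦ, hXγδ]
  let U := V * L₀
  have heU : D.e * U = U := by rw [← Matrix.mul_assoc, heV]
  have hUe : U * D.e = U := by rw [Matrix.mul_assoc, hL₀e]
  have hU : D.can * U.map (W (γ R R')) = U.map (W (δ R R')) * D.can := by
    have hmap : ∀ φ : R' →ₐ[R] T2 R R', U.map (W φ) = V.map (W φ) * L₀.map (W φ) := fun φ => Matrix.map_mul
    rw [hmap, hmap, ← Matrix.mul_assoc, hV, Matrix.mul_assoc, hL₀]
  have hUz : U.map (gh z) = D.e.map (gh z) := by
    have hXz : X.map (gh z) = X₁.map (algebraMap R R') := by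
      refine (gh_map z (Algebra.ofId R R') (Matrix.of x)).symm.trans ?_
      refine congrArg (fun M : Matrix (Fin r) (Fin s) R => M.map (algebraMap R R')) (Matrix.ext fun a b => ?_)
      rw [Matrix.map_apply, Matrix.of_apply, gh_zero, hx]
    have h1 : (Wt * U * V).map (gh z) = (Wt * D.e * V).map (gh z) := by
      rw [show Wt * U * V = G * X * G by simp only [U, L₀, G, Matrix.mul_assoc], hWe, show Wt * V = G from rfl,
        Matrix.map_mul, Matrix.map_mul, hXz, ← hg, ← Matrix.map_mul, ← Matrix.map_mul, hX₁]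
    have h2 := congrArg (fun M => A'ᵀ.map (gh z) * M * A.map (gh z)) h1
    simp only [← Matrix.map_mul] at h2
    rwa [show A'ᵀ * (Wt * U * V) * A = D.e * U * D.e by
        rw [show A'ᵀ * (Wt * U * V) * A = (A'ᵀ * Wt) * U * (V * A) by simp only [Matrix.mul_assoc], hB, hA],
      show A'ᵀ * (Wt * D.e * V) * A = D.e * D.e * D.e by
        rw [hWe, ← Matrix.mul_assoc, hB, Matrix.mul_assoc, hA]; simp only [D.e_mul_e], heU, hUe,
      D.e_mul_e, D.e_mul_e] at h2
  have hnil : IsNilpotent (D.e - U) := by
    refine isNilpotent_matrix _ fun i l => isNilpotent_of_coeff_zero hp' h0 ?_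
    rw [← gh_zero h0, ← Matrix.map_apply (f := gh z), Matrix.map_sub _ (map_sub (gh z)), hUz, sub_self,
      Matrix.zero_apply]
  obtain ⟨u, hu⟩ := hnil.isUnit_one_sub
  let u' : Matrix (Fin N) (Fin N) (TruncatedWittVector p n R') := ↑u
  let w : Matrix (Fin N) (Fin N) (TruncatedWittVector p n R') := ↑u⁻¹
  have huw : u' * w = 1 := Units.mul_inv u
  have hwu : w * u' = 1 := Units.inv_mul u
  have h1 : u' * D.e = U := by
    show (u : Matrix (Fin N) (Fin N) (TruncatedWittVector p n R')) * D.e = U
    rw [hu, sub_mul, sub_mul, one_mul, D.e_mul_e, hUe]; abel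
  have h2 : D.e * u' = U := by
    show D.e * (u : Matrix (Fin N) (Fin N) (TruncatedWittVector p n R')) = U
    rw [hu, mul_sub, mul_sub, mul_one, D.e_mul_e, heU]; abel
  have hwe : w * D.e = D.e * w :=
    calc w * D.e = w * (D.e * (u' * w)) := by rw [huw, mul_one]
      _ = w * (u' * D.e) * w := by rw [← mul_assoc D.e, h2, ← h1, ← mul_assoc]
      _ = D.e * w := by rw [← mul_assoc, hwu, one_mul]
  have hu' : D.can * u'.map (W (γ R R')) = u'.map (W (δ R R')) * D.can := by
    show D.can * (u : Matrix (Fin N) (Fin N) (TruncatedWittVector p n R')).map (W (γ R R')) =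
      (u : Matrix (Fin N) (Fin N) (TruncatedWittVector p n R')).map (W (δ R R')) * D.can
    rw [hu]
    simp only [Matrix.map_sub _ (map_sub _), Matrix.map_one _ (map_zero _) (map_one _), mul_sub, sub_mul, mul_one,
      one_mul, hU]
    rw [show D.can * D.e.map (W (γ R R')) = D.can from D.mul_right _ _,
      show D.e.map (W (δ R R')) * D.can = D.can from D.mul_left _ _]
  have hw' : w.map (W (δ R R')) * D.can = D.can * w.map (W (γ R R')) :=
    calc w.map (W (δ R R')) * D.can
        = w.map (W (δ R R')) * D.can * (u'.map (W (γ R R')) * w.map (W (γ R R'))) := by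
          rw [← Matrix.map_mul, huw, Matrix.map_one _ (map_zero _) (map_one _), mul_one]
      _ = w.map (W (δ R R')) * (D.can * u'.map (W (γ R R'))) * w.map (W (γ R R')) := by
          simp only [mul_assoc]
      _ = D.can * w.map (W (γ R R')) := by
          rw [hu', ← mul_assoc (w.map (W (δ R R'))), ← Matrix.map_mul, hwu,
            Matrix.map_one _ (map_zero _) (map_one _), one_mul]
  let L := L₀ * w
  have hVL : V * L = D.e :=
    calc V * (L₀ * w) = U * w := (Matrix.mul_assoc _ _ _).symm
      _ = D.e * (u' * w) := by rw [← h2, mul_assoc]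
      _ = D.e := by rw [huw, mul_one]
  have hLe : L * D.e = L := by rw [Matrix.mul_assoc, hwe, ← Matrix.mul_assoc, hL₀e]
  have hL : L.map (W (δ R R')) * D.can = L.map (W (γ R R')) := by
    have hmap : ∀ φ : R' →ₐ[R] T2 R R', L.map (W φ) = L₀.map (W φ) * w.map (W φ) := fun φ => Matrix.map_mul
    rw [hmap, hmap, Matrix.mul_assoc, hw', ← Matrix.mul_assoc, hL₀]
  obtain ⟨P₀, hP₀⟩ := exists_matrix_descent (R := R) (L * V) (by
    have hmap : ∀ φ : R' →ₐ[R] T2 R R', (L * V).map (W φ) = L.map (W φ) * V.map (W φ) := fun φ => Matrix.map_mul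
    rw [hmap, hmap, ← hV, ← Matrix.mul_assoc, hL])
  refine ⟨r, P₀, V, L, ofId_injective (R' := R') ?_, heV, hLe, hVL, hP₀.symm, ?_⟩
  · show (P₀ * P₀).map (W (Algebra.ofId R R')) = P₀.map (W (Algebra.ofId R R'))
    rw [Matrix.map_mul, hP₀, Matrix.mul_assoc, ← Matrix.mul_assoc V, hVL, heV]
  · intro S _ _ f g
    let k : T2 R R' →ₐ[R] S := Algebra.TensorProduct.lift f g fun _ _ => Commute.all _ _
    have kγ : k.comp (γ R R') = f := by ext a; simp [k]
    have kδ : k.comp (δ R R') = g := by ext a; simp [k]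
    have := congrArg (fun M => M.map (W k)) hV
    simp only [Matrix.map_mul, Datum.can] at this
    rw [D.natural, kγ, kδ] at this
    convert this using 1
    · congr 1
      exact Matrix.ext fun a b => (by simp only [Matrix.map_apply, W_comp_apply, kγ])
    · exact Matrix.ext fun a b => (by simp only [Matrix.map_apply, W_comp_apply, kδ])

end Groth.L28.WittEff
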