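import Mathlib.RingTheory.Flat.FaithfullyFlat.Algebra
import Mathlib.RingTheory.TensorProduct.Maps
import Mathlib.LinearAlgebra.TensorProduct.Pi
import Mathlib.LinearAlgebra.Matrix.ToLin
import Mathlib.Algebra.Module.Submodule.Ker

/-!
Faithfully flat descent for a linear cocycle of matrices: the complex of twisted cochains is exact, and the invariant
vectors span the image of the diagonal idempotent.
-/

set_option autoImplicit false

open TensorProduct Matrix

namespace Groth.L28.WittEff

universe u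

variable (R R' : Type u) [CommRing R] [CommRing R'] [Algebra R R']

/-- `R' ⊗ R'`. -/
abbrev T2 : Type u := R' ⊗[R] R'

/-- `R' ⊗ (R' ⊗ R')`. -/
abbrev T3 : Type u := R' ⊗[R] (R' ⊗[R] R')

/-- `a ↦ a ⊗ 1`. -/
noncomputable abbrev γ : R' →ₐ[R] T2 R R' := Algebra.TensorProduct.includeLeft

/-- `a ↦ 1 ⊗ a`. -/
noncomputable abbrev δ : R' →ₐ[R] T2 R R' := Algebra.TensorProduct.includeRight

/-- `a ⊗ b ↦ a ⊗ (b ⊗ 1)`. -/
noncomputable abbrev p12 : T2 R R' →ₐ[R] T3 R R' := Algebra.TensorProduct.map (AlgHom.id R R') (γ R R')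

/-- `a ⊗ b ↦ a ⊗ (1 ⊗ b)`. -/
noncomputable abbrev p13 : T2 R R' →ₐ[R] T3 R R' := Algebra.TensorProduct.map (AlgHom.id R R') (δ R R')

/-- `x ↦ 1 ⊗ x`. -/
noncomputable abbrev p23 : T2 R R' →ₐ[R] T3 R R' := Algebra.TensorProduct.includeRight

theorem p12_γ : (p12 R R').comp (γ R R') = (p13 R R').comp (γ R R') := by ext x; simp

theorem p12_δ : (p12 R R').comp (δ R R') = (p23 R R').comp (γ R R') := by ext x; simp

theorem p23_δ : (p23 R R').comp (δ R R') = (p13 R R').comp (δ R R') := by ext x; simp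

theorem p12_smul (a : R') (y : T2 R R') : p12 R R' (a • y) = a • p12 R R' y := by
  induction y using TensorProduct.induction_on with
  | zero => simp
  | tmul b c => simp [TensorProduct.smul_tmul']
  | add x y hx hy => rw [smul_add, map_add, hx, hy, map_add, smul_add]

theorem p13_smul (a : R') (y : T2 R R') : p13 R R' (a • y) = a • p13 R R' y := by
  induction y using TensorProduct.induction_on with
  | zero => simp
  | tmul b c => simp [TensorProduct.smul_tmul']
  | add x y hx hy => rw [smul_add, map_add, hx, hy, map_add, smul_add]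

variable {R R'} {ι : Type} [Fintype ι] [DecidableEq ι] (Φ : Matrix ι ι (T2 R R'))

/-- The twisted differential in degree zero. -/
noncomputable def d0 : (ι → R') →ₗ[R] (ι → T2 R R') :=
  (Φ.mulVecLin.restrictScalars R).comp ((γ R R').toLinearMap.compLeft ι) - (δ R R').toLinearMap.compLeft ι

/-- The twisted differential in degree one. -/
noncomputable def d1 : (ι → T2 R R') →ₗ[R] (ι → T3 R R') :=
  ((Φ.map (p23 R R')).mulVecLin.restrictScalars R).comp ((p12 R R').toLinearMap.compLeft ι)
    + (p23 R R').toLinearMap.compLeft ι - (p13 R R').toLinearMap.compLeft ι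

omit [DecidableEq ι] in
theorem d0_apply (f : ι → R') : d0 Φ f = Φ *ᵥ (γ R R' ∘ f) - δ R R' ∘ f := rfl

omit [DecidableEq ι] in
theorem d1_apply (c : ι → T2 R R') :
    d1 Φ c = Φ.map (p23 R R') *ᵥ (p12 R R' ∘ c) + p23 R R' ∘ c - p13 R R' ∘ c := rfl

omit [DecidableEq ι] in
theorem comp_mulVec {A B : Type u} [CommRing A] [CommRing B] [Algebra R A] [Algebra R B] (g : A →ₐ[R] B)
    (M : Matrix ι ι A) (v : ι → A) : g ∘ (M *ᵥ v) = M.map g *ᵥ (g ∘ v) :=
  funext fun i => RingHom.map_mulVec g.toRingHom M v i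

variable (hcoc : Φ.map (p23 R R') * Φ.map (p12 R R') = Φ.map (p13 R R'))

include hcoc in
omit [DecidableEq ι] in
theorem d1_d0 (f : ι → R') : d1 Φ (d0 Φ f) = 0 := by
  have h1 : p12 R R' ∘ (γ R R' ∘ f) = p13 R R' ∘ (γ R R' ∘ f) :=
    funext fun i => AlgHom.congr_fun (p12_γ R R') (f i)
  have h2 : p12 R R' ∘ (δ R R' ∘ f) = p23 R R' ∘ (γ R R' ∘ f) :=
    funext fun i => AlgHom.congr_fun (p12_δ R R') (f i)
  have h3 : p23 R R' ∘ (δ R R' ∘ f) = p13 R R' ∘ (δ R R' ∘ f) :=
    funext fun i => AlgHom.congr_fun (p23_δ R R') (f i)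
  have hs : ∀ g : T2 R R' →ₐ[R] T3 R R', g ∘ d0 Φ f = Φ.map g *ᵥ (g ∘ (γ R R' ∘ f)) - g ∘ (δ R R' ∘ f) := fun g => by
    rw [d0_apply, ← comp_mulVec]
    exact funext fun i => map_sub g _ _
  rw [d1_apply, hs, hs, hs, h1, h2, h3, mulVec_sub, mulVec_mulVec, hcoc]
  abel

/-- `R' ⊗ (ι → X) ≅ ι → R' ⊗ X`. -/
noncomputable abbrev pr (X : Type u) [AddCommGroup X] [Module R X] : R' ⊗[R] (ι → X) ≃ₗ[R'] (ι → R' ⊗[R] X) :=
  TensorProduct.piRight R R' R' (fun _ : ι => X)

/-- The contraction `a ⊗ (x ⊗ y) ↦ a x ⊗ y`, componentwise. -/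
noncomputable def μ (X : Type u) [AddCommGroup X] [Module R X] :
    R' ⊗[R] (ι → R' ⊗[R] X) →ₗ[R'] R' ⊗[R] (ι → X) :=
  LinearMap.liftBaseChange R' ((pr (R' := R') (ι := ι) X).symm.toLinearMap.restrictScalars R)

theorem μ_tmul (X : Type u) [AddCommGroup X] [Module R X] (a : R') (w : ι → R' ⊗[R] X) :
    μ X (a ⊗ₜ w) = a • (pr (R' := R') (ι := ι) X).symm w := rfl

theorem pr_tmul (X : Type u) [AddCommGroup X] [Module R X] (a : R') (w : ι → X) (m : ι) :
    pr (R := R) (R' := R') (ι := ι) X (a ⊗ₜ[R] w) m = a ⊗ₜ[R] w m := by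
  simp [pr]

theorem pr_lTensor_d0 (G : R' ⊗[R] (ι → R')) :
    pr (T2 R R') ((d0 Φ).lTensor R' G) =
      Φ.map (p23 R R') *ᵥ (p12 R R' ∘ pr R' G) - p13 R R' ∘ pr R' G := by
  induction G using TensorProduct.induction_on with
  | zero =>
    simp only [map_zero]
    rw [show (p12 R R' ∘ (0 : ι → T2 R R')) = 0 from funext fun _ => map_zero _,
      show (p13 R R' ∘ (0 : ι → T2 R R')) = 0 from funext fun _ => map_zero _, mulVec_zero, sub_zero]
  | tmul a f =>
    funext m
    rw [LinearMap.lTensor_tmul, pr_tmul, d0_apply, Pi.sub_apply, Pi.sub_apply, tmul_sub, Function.comp_apply,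
      Function.comp_apply, pr_tmul]
    congr 1
    simp only [mulVec, dotProduct, Function.comp_apply, pr_tmul, Matrix.map_apply, tmul_sum]
    exact Finset.sum_congr rfl fun k _ => by simp
  | add x y hx hy =>
    rw [map_add, map_add, hx, hy, map_add,
      show p12 R R' ∘ (pr R' x + pr R' y) = p12 R R' ∘ pr R' x + p12 R R' ∘ pr R' y from
        funext fun i => map_add (p12 R R') _ _,
      show p13 R R' ∘ (pr R' x + pr R' y) = p13 R R' ∘ pr R' x + p13 R R' ∘ pr R' y from
        funext fun i => map_add (p13 R R') _ _, mulVec_add]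
    abel

theorem homotopy (z : R' ⊗[R] (ι → T2 R R')) :
    μ (T2 R R') ((d1 Φ).lTensor R' z) = z + (d0 Φ).lTensor R' (μ R' z) := by
  induction z using TensorProduct.induction_on with
  | zero => simp
  | tmul a c =>
    apply (pr (T2 R R')).injective
    rw [LinearMap.lTensor_tmul, μ_tmul, map_smul, LinearEquiv.apply_symm_apply, map_add, pr_lTensor_d0, μ_tmul,
      map_smul, LinearEquiv.apply_symm_apply, d1_apply,
      show p12 R R' ∘ (a • c) = a • (p12 R R' ∘ c) from funext fun i => p12_smul R R' a _,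
      show p13 R R' ∘ (a • c) = a • (p13 R R' ∘ c) from funext fun i => p13_smul R R' a _,
      mulVec_smul, smul_sub, smul_add]
    rw [show pr (T2 R R') (a ⊗ₜ c) = a • (p23 R R' ∘ c) from funext fun i => by
      rw [pr_tmul, Pi.smul_apply, Function.comp_apply, Algebra.TensorProduct.includeRight_apply, smul_tmul',
        smul_eq_mul, mul_one]]
    abel
  | add x y hx hy =>
    rw [map_add, map_add, hx, hy, map_add, map_add]
    abel

include hcoc in
/-- Cocycles of degree one are coboundaries. -/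
theorem exists_d0_eq [Module.FaithfullyFlat R R'] {c : ι → T2 R R'} (hc : d1 Φ c = 0) : ∃ f, d0 Φ f = c := by
  have hex : Function.Exact ((d0 Φ).lTensor R') ((d1 Φ).lTensor R') := by
    intro z
    refine ⟨fun hz => ⟨- μ R' z, ?_⟩, ?_⟩
    · have h := homotopy Φ z
      rw [hz, map_zero] at h
      rw [map_neg]
      exact (eq_neg_of_add_eq_zero_left h.symm).symm
    · rintro ⟨w, rfl⟩
      rw [← LinearMap.lTensor_comp_apply, show (d1 Φ).comp (d0 Φ) = 0 from LinearMap.ext (d1_d0 Φ hcoc)]
      simp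
  exact ((Module.FaithfullyFlat.lTensor_reflects_exact (l12 := d0 Φ) (l23 := d1 Φ) (R := R) (M := R') hex) c).mp hc

include hcoc in
/-- The invariant vectors span the image of the diagonal idempotent. -/
theorem mem_span_ker [Module.Flat R R'] {u : ι → R'}
    (hu : Φ.map (Algebra.TensorProduct.lmul' R) *ᵥ u = u) :
    u ∈ Submodule.span R' (LinearMap.ker (d0 Φ) : Set (ι → R')) := by
  let g : ι → T2 R R' := Φ *ᵥ (γ R R' ∘ u)
  let G := (pr (R' := R') (ι := ι) R').symm g
  have hG : (d0 Φ).lTensor R' G = 0 := by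
    apply (pr (T2 R R')).injective
    rw [pr_lTensor_d0, LinearEquiv.apply_symm_apply, map_zero, comp_mulVec, comp_mulVec, mulVec_mulVec, hcoc,
      show p12 R R' ∘ (γ R R' ∘ u) = p13 R R' ∘ (γ R R' ∘ u) from
        funext fun i => AlgHom.congr_fun (p12_γ R R') (u i), sub_self]
  obtain ⟨z, hz⟩ := (Module.Flat.lTensor_exact R' (LinearMap.exact_subtype_ker_map (d0 Φ)) G).mp hG
  let ev : R' ⊗[R] (ι → R') →ₗ[R'] (ι → R') := LinearMap.liftBaseChange R' LinearMap.id
  have hev : ∀ G, ev G = Algebra.TensorProduct.lmul' R ∘ pr R' G := fun G => by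
    induction G using TensorProduct.induction_on with
    | zero => funext i; simp
    | tmul a f => funext i; simp [ev]
    | add x y hx hy =>
      rw [map_add, map_add, hx, hy]
      exact funext fun i => (map_add (Algebra.TensorProduct.lmul' R (S := R')) _ _).symm
  have hmem : ∀ w, ev ((LinearMap.ker (d0 Φ)).subtype.lTensor R' w) ∈
      Submodule.span R' (LinearMap.ker (d0 Φ) : Set (ι → R')) := fun w => by
    induction w using TensorProduct.induction_on with
    | zero => simp
    | tmul a f => simpa [ev] using Submodule.smul_mem _ a (Submodule.subset_span f.2)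
    | add x y hx hy => rw [map_add, map_add]; exact add_mem hx hy
  have := hmem z
  rw [hz, hev, LinearEquiv.apply_symm_apply, comp_mulVec] at this
  rwa [show Algebra.TensorProduct.lmul' R ∘ (γ R R' ∘ u) = u from funext fun i => by simp, hu] at this

end Groth.L28.WittEff
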